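import Groth.Prelude.Def_Neron
import Mathlib.AlgebraicGeometry.Fiber
import Mathlib.AlgebraicGeometry.Morphisms.Flat
import Mathlib.AlgebraicGeometry.Morphisms.Proper
import Mathlib.AlgebraicGeometry.Morphisms.QuasiSeparated
import Mathlib.RingTheory.DiscreteValuationRing.Basic
import Mathlib.RingTheory.Spectrum.Prime.Topology
import Mathlib.Topology.Sheaves.SheafCondition.Sites

/-!
# Proper modifications of the special fibre with reduced special fibre do not change functions
-/

set_option autoImplicit false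
set_option linter.style.haveILetI false
set_option backward.isDefEq.respectTransparency false
set_option backward.isDefEq.respectTransparency.types false

noncomputable section

universe u

open CategoryTheory CategoryTheory.Limits AlgebraicGeometry TopologicalSpace Opposite

namespace Groth.L18.AppIso

variable {R : Type u} [CommRing R] [IsDomain R] [IsDiscreteValuationRing R]

theorem isLocalizationAway_fractionRing {ϖ : R} (hϖ : Irreducible ϖ) :
    IsLocalization.Away ϖ (FractionRing R) := by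
  refine IsLocalization.iff_of_le_of_exists_dvd (S := FractionRing R) (Submonoid.powers ϖ) (nonZeroDivisors R) ?_ ?_ |>.2 inferInstance
  · rintro _ ⟨n, rfl⟩
    exact mem_nonZeroDivisors_of_ne_zero (pow_ne_zero n hϖ.ne_zero)
  · intro x hx
    obtain ⟨n, hn⟩ := IsDiscreteValuationRing.associated_pow_irreducible (nonZeroDivisors.ne_zero hx) hϖ
    exact ⟨ϖ ^ n, ⟨n, rfl⟩, hn.dvd⟩

variable {Z : Scheme.{u}} (h : Z ⟶ Spec (CommRingCat.of R))

/-- The scalar `c` as a section. -/
def el (c : R) (U : Z.Opens) : Γ(Z, U) :=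
  h.appLE ⊤ U (le_top : U ≤ h ⁻¹ᵁ ⊤) ((Scheme.ΓSpecIso (CommRingCat.of R)).inv c)

theorem el_res (c : R) {U U' : Z.Opens} (i : U' ≤ U) : Z.presheaf.map (homOfLE i).op (el h c U) = el h c U' :=
  congrArg (fun f : Γ(Spec (CommRingCat.of R), ⊤) ⟶ _ => f ((Scheme.ΓSpecIso (CommRingCat.of R)).inv c))
    (Scheme.Hom.appLE_map (f := h) (U := ⊤) (le_top : U ≤ h ⁻¹ᵁ ⊤) (homOfLE i).op)

theorem app_el {W : Scheme.{u}} (q : W ⟶ Z) (c : R) (U : Z.Opens) :
    q.app U (el h c U) = el (q ≫ h) c (q ⁻¹ᵁ U) := by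
  rw [← Scheme.Hom.appLE_eq_app (f := q), el, el, ← CommRingCat.comp_apply, Scheme.Hom.appLE_comp_appLE]

theorem basicOpen_el (c : R) (U : Z.Opens) :
    Z.basicOpen (el h c U) = U ⊓ h ⁻¹ᵁ (PrimeSpectrum.basicOpen c : (Spec (CommRingCat.of R)).Opens) := by
  rw [el, Scheme.Hom.appLE, CommRingCat.comp_apply, Scheme.basicOpen_res, ← Scheme.preimage_basicOpen]
  congr 2
  rw [basicOpen_eq_of_affine]

theorem el_regular_affine [Flat h] {c : R} (hc : c ≠ 0) {W : Z.Opens} (hW : IsAffineOpen W) :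
    IsSMulRegular Γ(Z, W) (el h c W) := by
  let φ : R →+* Γ(Z, W) := (h.appLE ⊤ W (le_top : W ≤ h ⁻¹ᵁ ⊤)).hom.comp (Scheme.ΓSpecIso (CommRingCat.of R)).inv.hom
  have hφ : φ.Flat := RingHom.Flat.comp
    (RingHom.Flat.of_bijective (ConcreteCategory.bijective_of_isIso (Scheme.ΓSpecIso (CommRingCat.of R)).inv))
    (h.flat_appLE (isAffineOpen_top _) hW _)
  letI := φ.toAlgebra
  haveI : Module.Flat R Γ(Z, W) := hφ
  exact IsSMulRegular.of_flat (IsLeftRegular.isSMulRegular (isRegular_of_ne_zero hc).left)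

theorem el_mul_eq_zero [Flat h] {c : R} (hc : c ≠ 0) {U : Z.Opens} {x : Γ(Z, U)} (hx : el h c U * x = 0) :
    x = 0 := by
  obtain ⟨Us, hUs, hU⟩ := TopologicalSpace.Opens.isBasis_iff_cover.1 Z.isBasis_affineOpens U
  refine TopCat.Sheaf.eq_of_locally_eq' Z.sheaf (fun W : Us => (W : Z.Opens)) U
    (fun W => homOfLE ((le_sSup W.2).trans hU.ge)) (hU.le.trans (sSup_eq_iSup' _).le) x 0 fun W => ?_
  refine el_regular_affine h hc (hUs W.2) ?_
  show el h c (W : Z.Opens) • (Z.presheaf.map _ x) = el h c (W : Z.Opens) • (Z.presheaf.map _ 0)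
  rw [map_zero, smul_zero, smul_eq_mul, ← el_res h c ((le_sSup W.2).trans hU.ge), ← map_mul, hx, map_zero]

theorem el_pow_mul_eq_zero [Flat h] {c : R} (hc : c ≠ 0) {U : Z.Opens} :
    ∀ (n : ℕ) {x : Γ(Z, U)}, el h c U ^ n * x = 0 → x = 0
  | 0, x, hx => by simpa using hx
  | n + 1, x, hx => by
    rw [pow_succ, mul_assoc] at hx
    exact el_mul_eq_zero h hc (el_pow_mul_eq_zero hc n hx)

/-- The generic open meets every non-empty open. -/
theorem dense_generic [Flat h] {c : R} (hc : c ≠ 0) :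
    Dense ((h ⁻¹ᵁ (PrimeSpectrum.basicOpen c : (Spec (CommRingCat.of R)).Opens) : Z.Opens) : Set Z) := by
  rw [dense_iff_inter_open]
  intro O hO ⟨x, hx⟩
  obtain ⟨_, ⟨W', hW', rfl⟩, hxW', hWO'⟩ := Z.isBasis_affineOpens.exists_subset_of_mem_open hx hO
  let W : Z.Opens := W'
  have hW : IsAffineOpen W := hW'
  have hxW : x ∈ W := hxW'
  have hWO : (W : Set Z) ⊆ O := hWO'
  by_contra hne
  rw [Set.not_nonempty_iff_eq_empty] at hne
  have he : Z.basicOpen (el h c W) = ⊥ := by
    rw [basicOpen_el, eq_bot_iff]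
    rintro z ⟨hz1, hz2⟩
    exact (Set.notMem_empty z (hne.le ⟨hWO hz1, hz2⟩)).elim
  haveI : Nontrivial Γ(Z, W) := by
    haveI : Nonempty W.toScheme := ⟨⟨x, hxW⟩⟩
    infer_instance
  haveI : Subsingleton Γ(Z, Z.basicOpen (el h c W)) := by
    rw [he]; infer_instance
  obtain ⟨n, hn⟩ := exists_pow_mul_eq_zero_of_res_basicOpen_eq_zero_of_isCompact Z hW.isCompact 1 (el h c W)
    (Subsingleton.elim _ _)
  exact one_ne_zero (el_pow_mul_eq_zero h hc n hn : (1 : Γ(Z, W)) = 0)

/-- The uniformiser generates a radical ideal on affine opens when the special fibre is reduced. -/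
theorem isRadical_span_el {ϖ : R} (hϖ : Irreducible ϖ) (hred : IsReduced (h.fiber (IsLocalRing.closedPoint R)))
    {V : Z.Opens} (hV : IsAffineOpen V) : (Ideal.span {el h ϖ V}).IsRadical := by
  let φ : R →+* Γ(Z, V) := (h.appLE ⊤ V (le_top : V ≤ h ⁻¹ᵁ ⊤)).hom.comp (Scheme.ΓSpecIso (CommRingCat.of R)).inv.hom
  letI := φ.toAlgebra
  have hφ : hV.fromSpec ≫ h = Spec.map (CommRingCat.ofHom (algebraMap R Γ(Z, V))) := by
    rw [← (isAffineOpen_top (Spec (CommRingCat.of R))).SpecMap_appLE_fromSpec h hV (le_top : V ≤ h ⁻¹ᵁ ⊤), IsAffineOpen.fromSpec_top,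
      Scheme.isoSpec_Spec_inv, ← Spec.map_comp]
    rfl
  let p : PrimeSpectrum R := IsLocalRing.closedPoint R
  haveI := hred
  haveI : IsReduced (pullback hV.fromSpec (pullback.fst h ((Spec (CommRingCat.of R)).fromSpecResidueField p))) :=
    isReduced_of_isOpenImmersion (Y := h.fiber p) (pullback.snd _ _)
  haveI : IsReduced (Spec (CommRingCat.of (p.asIdeal.Fiber Γ(Z, V)))) :=
    isReduced_of_isOpenImmersion ((Arrow.leftFunc.mapIso (Spec.fiberToSpecResidueFieldIso R Γ(Z, V) p)).symm ≪≫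
      pullback.congrHom hφ.symm rfl ≪≫ (pullbackRightPullbackFstIso _ _ _).symm).hom
  haveI : _root_.IsReduced (p.asIdeal.Fiber Γ(Z, V)) :=
    isReduced_of_injective (Scheme.ΓSpecIso (CommRingCat.of (p.asIdeal.Fiber Γ(Z, V)))).inv.hom
      (ConcreteCategory.bijective_of_isIso _).1
  have hp : p.asIdeal = Ideal.span {ϖ} := hϖ.maximalIdeal_eq
  haveI : p.asIdeal.IsMaximal := IsLocalRing.maximalIdeal.isMaximal R
  let T := Γ(Z, V) ⧸ Ideal.span {el h ϖ V}
  let κ₀ : (R ⧸ p.asIdeal) →ₐ[R] T := Ideal.Quotient.liftₐ _ (Algebra.ofId R T) fun r hr => by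
    rw [hp] at hr
    obtain ⟨s, rfl⟩ := Ideal.mem_span_singleton'.1 hr
    show algebraMap R T (s * ϖ) = 0
    rw [IsScalarTower.algebraMap_apply R Γ(Z, V) T, map_mul, Ideal.Quotient.algebraMap_eq]
    exact Ideal.Quotient.eq_zero_iff_mem.2 (Ideal.mul_mem_left _ _ (Ideal.mem_span_singleton_self _))
  let e : (R ⧸ p.asIdeal) ≃ₐ[R] p.asIdeal.ResidueField :=
    AlgEquiv.ofBijective (IsScalarTower.toAlgHom R (R ⧸ p.asIdeal) p.asIdeal.ResidueField)
      (Ideal.bijective_algebraMap_quotient_residueField p.asIdeal)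
  let L : p.asIdeal.Fiber Γ(Z, V) →ₐ[R] T :=
    Algebra.TensorProduct.lift (κ₀.comp e.symm.toAlgHom) (Ideal.Quotient.mkₐ R (Ideal.span {el h ϖ V}))
      fun _ _ => Commute.all _ _
  intro a ⟨n, hn⟩
  have hz : (1 : p.asIdeal.ResidueField) ⊗ₜ[R] a = (0 : p.asIdeal.Fiber Γ(Z, V)) := by
    refine IsReduced.eq_zero _ ⟨n, ?_⟩
    obtain ⟨s, hs⟩ := Ideal.mem_span_singleton'.1 hn
    rw [Algebra.TensorProduct.tmul_pow, one_pow, ← hs, show s * el h ϖ V = ϖ • s from
      (mul_comm _ _).trans (Algebra.smul_def ϖ s).symm, TensorProduct.tmul_smul, TensorProduct.smul_tmul',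
      Algebra.smul_def, show algebraMap R p.asIdeal.ResidueField ϖ = 0 from
        Ideal.algebraMap_residueField_eq_zero.2 (hp ▸ Ideal.mem_span_singleton_self ϖ), zero_mul,
      TensorProduct.zero_tmul]
  have := congrArg L hz
  rw [Algebra.TensorProduct.lift_tmul, map_one, one_mul, map_zero] at this
  exact Ideal.Quotient.eq_zero_iff_mem.1 this

section Main

variable (X Y : Over (Spec (CommRingCat.of R))) [Flat X.hom] [Flat Y.hom] (π : Y ⟶ X)

theorem isIso_restrict_generic {ϖ : R} (hϖ : Irreducible ϖ) (hgen : IsIso ((Neron.genericFibre R).map π)) :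
    IsIso (π.left ∣_ (X.hom ⁻¹ᵁ (PrimeSpectrum.basicOpen ϖ : (Spec (CommRingCat.of R)).Opens))) := by
  haveI := isLocalizationAway_fractionRing hϖ
  haveI : IsOpenImmersion (Neron.genPt R) := IsOpenImmersion.of_isLocalization (S := FractionRing R) ϖ
  let j := pullback.fst X.hom (Neron.genPt R)
  have hU : j.opensRange = X.hom ⁻¹ᵁ (PrimeSpectrum.basicOpen ϖ : (Spec (CommRingCat.of R)).Opens) := by
    ext1
    rw [Scheme.Hom.coe_opensRange, Scheme.Pullback.range_fst]
    exact congrArg (X.hom ⁻¹' ·) (PrimeSpectrum.localization_away_comap_range (FractionRing R) ϖ)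
  rw [← hU]
  haveI := hgen
  let e := ((Neron.genericFibre R).map π).left
  haveI : IsIso e := inferInstanceAs (IsIso ((Over.forget _).map ((Neron.genericFibre R).map π)))
  have he1 : e ≫ j = pullback.fst Y.hom (Neron.genPt R) ≫ π.left := pullback.lift_fst _ _ _
  have he2 : e ≫ pullback.snd X.hom (Neron.genPt R) = pullback.snd Y.hom (Neron.genPt R) := pullback.lift_snd _ _ _
  have hpb : IsPullback (pullback.fst Y.hom (Neron.genPt R)) e π.left j := by
    refine IsPullback.of_bot ?_ he1.symm (IsPullback.of_hasPullback X.hom (Neron.genPt R))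
    rw [he2, Over.w π]
    exact IsPullback.of_hasPullback _ _
  haveI : IsIso (pullback.snd π.left j) := by
    rw [← hpb.isoPullback_inv_snd]; infer_instance
  exact ((MorphismProperty.isomorphisms Scheme).arrow_mk_iso_iff (morphismRestrictOpensRange π.left j)).2
    (MorphismProperty.isomorphisms.infer_property (pullback.snd π.left j))

theorem isIso_app_le {ϖ : R} (hϖ : Irreducible ϖ) (hgen : IsIso ((Neron.genericFibre R).map π))
    {W : X.left.Opens} (hW : W ≤ X.hom ⁻¹ᵁ (PrimeSpectrum.basicOpen ϖ : (Spec (CommRingCat.of R)).Opens)) :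
    IsIso (π.left.app W) := by
  let U : X.left.Opens := X.hom ⁻¹ᵁ (PrimeSpectrum.basicOpen ϖ : (Spec (CommRingCat.of R)).Opens)
  haveI := isIso_restrict_generic X Y π hϖ hgen
  have e : U.ι ''ᵁ (U.ι ⁻¹ᵁ W) = W := by
    rw [Scheme.Hom.image_preimage_eq_opensRange_inf, Scheme.Opens.opensRange_ι]
    exact inf_eq_right.2 hW
  have hi : IsIso ((π.left ∣_ U).app (U.ι ⁻¹ᵁ W)) := inferInstance
  rw [morphismRestrict_app] at hi
  haveI := hi
  have h2 : IsIso (π.left.app (U.ι ''ᵁ (U.ι ⁻¹ᵁ W))) := IsIso.of_isIso_comp_right _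
    (Y.left.presheaf.map (eqToHom (image_morphismRestrict_preimage π.left U (U.ι ⁻¹ᵁ W))).op)
  rwa [e] at h2

theorem surjective_left [IsProper π.left] {ϖ : R} (hϖ : Irreducible ϖ)
    (hgen : IsIso ((Neron.genericFibre R).map π)) : Function.Surjective π.left := by
  haveI := isIso_restrict_generic X Y π hϖ hgen
  intro x
  have hsub : ((X.hom ⁻¹ᵁ (PrimeSpectrum.basicOpen ϖ : (Spec (CommRingCat.of R)).Opens) : X.left.Opens) : Set X.left) ⊆ Set.range π.left := by
    intro z hz
    obtain ⟨y, hy⟩ := (π.left ∣_ (X.hom ⁻¹ᵁ (PrimeSpectrum.basicOpen ϖ :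
      (Spec (CommRingCat.of R)).Opens))).homeomorph.surjective ⟨z, hz⟩
    refine ⟨y.1, ?_⟩
    have h2 := Scheme.Hom.comp_apply (π.left ∣_ (X.hom ⁻¹ᵁ (PrimeSpectrum.basicOpen ϖ :
      (Spec (CommRingCat.of R)).Opens))) (Scheme.Opens.ι _) y
    rw [morphismRestrict_ι, Scheme.Hom.comp_apply] at h2
    exact h2.trans (congrArg Subtype.val hy)
  exact (π.left.isClosedMap.isClosed_range.closure_subset_iff.2 hsub) ((dense_generic X.hom hϖ.ne_zero) x)

theorem bijective_app_affine [IsProper π.left] [IsReduced (X.hom.fiber (IsLocalRing.closedPoint R))] {ϖ : R}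
    (hϖ : Irreducible ϖ) (hgen : IsIso ((Neron.genericFibre R).map π)) {V : X.left.Opens} (hV : IsAffineOpen V) :
    Function.Bijective (π.left.app V) := by
  let t := el X.hom ϖ V
  let t' := el Y.hom ϖ (π.left ⁻¹ᵁ V)
  have htt : π.left.app V t = t' := by
    simp only [t, t', app_el, Over.w π]
  haveI hDiso : IsIso (π.left.app (X.left.basicOpen t)) :=
    isIso_app_le X Y π hϖ hgen ((basicOpen_el X.hom ϖ V).le.trans inf_le_right)
  have hD := ConcreteCategory.bijective_of_isIso (π.left.app (X.left.basicOpen t))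
  let res := X.left.presheaf.map (homOfLE (X.left.basicOpen_le t)).op
  let res' := Y.left.presheaf.map (homOfLE (π.left.preimage_mono (X.left.basicOpen_le t))).op
  have hnat : ∀ a, π.left.app (X.left.basicOpen t) (res a) = res' (π.left.app V a) := fun a =>
    CategoryTheory.congr_fun (π.left.naturality (homOfLE (X.left.basicOpen_le t)).op) a
  haveI : IsLocalization.Away t Γ(X.left, X.left.basicOpen t) := hV.isLocalization_basicOpen t
  have hpre : π.left ⁻¹ᵁ X.left.basicOpen t = Y.left.basicOpen t' := by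
    rw [Scheme.preimage_basicOpen, htt]
  refine ⟨(injective_iff_map_eq_zero _).2 fun a ha => ?_, fun b => ?_⟩
  · have h0 : res a = res 0 := hD.1 (by rw [hnat, ha, map_zero, map_zero, map_zero])
    obtain ⟨⟨_, n, rfl⟩, hn⟩ := (IsLocalization.eq_iff_exists (Submonoid.powers t) Γ(X.left, X.left.basicOpen t)).1
      (show algebraMap _ _ a = algebraMap _ _ 0 from h0)
    refine el_pow_mul_eq_zero X.hom hϖ.ne_zero n ?_
    simpa using hn
  obtain ⟨c, hc⟩ := hD.2 (res' b)
  obtain ⟨⟨a, ⟨_, n, rfl⟩⟩, ha⟩ := IsLocalization.surj (Submonoid.powers t) c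
  replace ha : c * res (t ^ n) = res a := ha
  have h1 : res' (t' ^ n * b - π.left.app V a) = 0 := by
    rw [map_sub, map_mul, ← hnat a, ← ha, map_mul, hc, hnat, map_pow (π.left.app V).hom, htt]
    ring
  have h2 : π.left.app V a = t' ^ n * b := by
    have hc' : IsCompact (π.left ⁻¹ᵁ V : Set Y.left) :=
      π.left.isCompact_preimage hV.isCompact
    have h1' : (Y.left.presheaf.map (homOfLE (Y.left.basicOpen_le t')).op) (t' ^ n * b - π.left.app V a) = 0 := by
      have e : (homOfLE (Y.left.basicOpen_le t')).op =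
          (homOfLE (π.left.preimage_mono (X.left.basicOpen_le t))).op ≫ (eqToHom hpre.symm).op := Subsingleton.elim _ _
      rw [e, Functor.map_comp, CommRingCat.comp_apply]
      exact (congrArg _ h1).trans (map_zero _)
    obtain ⟨m, hm⟩ := exists_pow_mul_eq_zero_of_res_basicOpen_eq_zero_of_isCompact Y.left hc' _ t' h1'
    exact (sub_eq_zero.1 (el_pow_mul_eq_zero Y.hom hϖ.ne_zero m hm)).symm
  clear ha hc h1
  induction n generalizing a with
  | zero => exact ⟨a, by simpa using h2⟩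
  | succ n ih =>
    have hat : a ∈ Ideal.span {t} := by
      rw [← (isRadical_span_el X.hom hϖ ‹_› hV).radical, Ideal.radical_eq_sInf, Ideal.mem_sInf]
      rintro P ⟨hPt, hP⟩
      by_contra haP
      let x : X.left := hV.fromSpec ⟨P, hP⟩
      have hmem : ∀ f : Γ(X.left, V), x ∈ X.left.basicOpen f ↔ f ∉ P := fun f => by
        rw [← SetLike.mem_coe, show (x ∈ (X.left.basicOpen f : Set X.left)) ↔
          (⟨P, hP⟩ : PrimeSpectrum Γ(X.left, V)) ∈ hV.fromSpec ⁻¹ᵁ X.left.basicOpen f from Iff.rfl,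
          hV.fromSpec_preimage_basicOpen]
        rfl
      obtain ⟨y, hy⟩ := surjective_left X Y π hϖ hgen x
      have h3 : y ∈ π.left ⁻¹ᵁ X.left.basicOpen a := show π.left y ∈ _ from hy ▸ (hmem a).2 haP
      rw [Scheme.preimage_basicOpen, h2, pow_succ', mul_assoc, Scheme.basicOpen_mul] at h3
      have h4 : y ∈ π.left ⁻¹ᵁ X.left.basicOpen t := hpre.symm ▸ h3.1
      exact (hmem t).1 (show x ∈ _ from hy ▸ h4) (hPt (Ideal.mem_span_singleton_self t))
    obtain ⟨a', rfl⟩ := Ideal.mem_span_singleton'.1 hat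
    refine ih a' ?_
    refine sub_eq_zero.1 (el_mul_eq_zero Y.hom hϖ.ne_zero (?_ : t' * _ = 0))
    rw [map_mul, htt] at h2
    rw [mul_sub, mul_comm t', h2, pow_succ', mul_assoc, sub_self]

theorem isIso_app [IsProper π.left] [IsReduced (X.hom.fiber (IsLocalRing.closedPoint R))]
    (hgen : IsIso ((Neron.genericFibre R).map π)) (V : X.left.Opens) : IsIso (π.left.app V) := by
  obtain ⟨ϖ, hϖ⟩ := IsDiscreteValuationRing.exists_irreducible R
  let F : TopCat.Sheaf CommRingCat X.left := X.left.sheaf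
  let G : TopCat.Sheaf CommRingCat X.left := (TopCat.Sheaf.pushforward CommRingCat π.left.base).obj Y.left.sheaf
  let ψ : F ⟶ G := ⟨π.left.c⟩
  haveI : IsIso ψ := TopCat.Sheaf.isIso_iff_isIso_basis (B := fun W : X.left.affineOpens => (W : X.left.Opens))
    (φ := ψ) (by simpa [Subtype.range_coe] using X.left.isBasis_affineOpens) fun W =>
    (ConcreteCategory.isIso_iff_bijective _).2 (bijective_app_affine X Y π hϖ hgen W.2)
  haveI : IsIso ψ.hom := inferInstanceAs (IsIso ((TopCat.Sheaf.forget _ _).map ψ))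
  exact (NatTrans.isIso_iff_isIso_app ψ.hom).1 inferInstance (op V)

end Main

end Groth.L18.AppIso
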